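import Groth.Agent.CohCmpLib.SemiCont
import Groth.Agent.CohCmpLib.EulerFibre
import Groth.Agent.CohCmpLib.HomLift
import Groth.Agent.CohCmpLib.HomFrame
import Groth.Agent.Formal2VBLib.Sections
import Groth.Agent.SeesawLib.Ranks
import Groth.Agent.DegPullLib.H0
import Groth.Agent.CurveVBLib.Line
import Groth.Agent.S15333
import Groth.Prelude.Def_Curve

/-!
# Stable bundles are separated in families
-/

set_option autoImplicit false
set_option linter.style.haveILetI false
set_option maxHeartbeats 1000000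
universe u

open CategoryTheory CategoryTheory.Limits AlgebraicGeometry TopologicalSpace Opposite

noncomputable section

namespace StableSepLib

variable {X T : Scheme.{u}} {k : Type u} [Field k]
  (p : X ⟶ Spec (CommRingCat.of k)) (q : T ⟶ Spec (CommRingCat.of k))

theorem isPullback_slice (t : Spec (CommRingCat.of k) ⟶ T) (ht : t ≫ q = 𝟙 _) (j : X ⟶ pullback p q)
    (h1 : j ≫ pullback.fst p q = 𝟙 X) (h2 : j ≫ pullback.snd p q = p ≫ t) :
    IsPullback j p (pullback.snd p q) t := by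
  refine IsPullback.of_right ?_ h2 (IsPullback.of_hasPullback p q)
  rw [h1, ht]
  exact IsPullback.of_horiz_isIso ⟨by simp⟩

variable [X.Over (Spec (CommRingCat.of k))]

theorem nontrivial_h0_iff (k : Type u) [Field k] [X.Over (Spec (CommRingCat.of k))] (M P : X.Modules) :
    Nontrivial (Coh.HH X (CohCmpLib.homMod M P) 0) ↔ ∃ φ : M ⟶ P, φ ≠ 0 := by
  let e := (DegPullLib.e0 (CohCmpLib.homMod M P)).toEquiv
  have h : Function.Bijective (Formal2VBLib.oh : (M ⟶ P) → _) :=
    ⟨Formal2VBLib.oh_injective, fun x => ⟨_, Formal2VBLib.oh_sh x⟩⟩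
  rw [(e.trans (Equiv.ofBijective _ h).symm).nontrivial_congr]
  exact ⟨fun _ => exists_ne 0, fun ⟨φ, hφ⟩ => ⟨φ, 0, hφ⟩⟩

section Family

variable [T.Over (Spec (CommRingCat.of k))]
  [IsIntegral X] [IsProper (X ↘ Spec (CommRingCat.of k))] [Smooth (X ↘ Spec (CommRingCat.of k))]
  [IsIntegral T] [Smooth (T ↘ Spec (CommRingCat.of k))]

/-- The inclusion of the fibre over a point. -/
def slice (t : Spec (CommRingCat.of k) ⟶ T) (ht : t ≫ (T ↘ Spec (CommRingCat.of k)) = 𝟙 _) :
    X ⟶ pullback (X ↘ Spec (CommRingCat.of k)) (T ↘ Spec (CommRingCat.of k)) :=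
  pullback.lift (𝟙 X) ((X ↘ Spec (CommRingCat.of k)) ≫ t) (by rw [Category.assoc, ht, Category.comp_id, Category.id_comp])

theorem slice_fst (t : Spec (CommRingCat.of k) ⟶ T) (ht : t ≫ (T ↘ Spec (CommRingCat.of k)) = 𝟙 _) :
    slice (X := X) t ht ≫ pullback.fst _ _ = 𝟙 X := pullback.lift_fst _ _ _

theorem slice_snd (t : Spec (CommRingCat.of k) ⟶ T) (ht : t ≫ (T ↘ Spec (CommRingCat.of k)) = 𝟙 _) :
    slice (X := X) t ht ≫ pullback.snd _ _ = (X ↘ Spec (CommRingCat.of k)) ≫ t := pullback.lift_snd _ _ _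

open CurveVBLib in
theorem main [IsAlgClosed k] (hX : topologicalKrullDim X = 1) (hT : topologicalKrullDim T = 1)
    (t₀ : Spec (CommRingCat.of k) ⟶ T) (ht₀ : t₀ ≫ (T ↘ Spec (CommRingCat.of k)) = 𝟙 _)
    (r : ℕ) (hr : 0 < r) (E E' : (pullback (X ↘ Spec (CommRingCat.of k)) (T ↘ Spec (CommRingCat.of k))).Modules)
    (hE : FlatMod.IsFinLocFreeOfRank r E) (hE' : FlatMod.IsFinLocFreeOfRank r E')
    (hiso : ∀ (t : Spec (CommRingCat.of k) ⟶ T) (j : X ⟶ pullback (X ↘ Spec (CommRingCat.of k)) (T ↘ Spec (CommRingCat.of k))),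
      t ≫ (T ↘ Spec (CommRingCat.of k)) = 𝟙 _ → t ≠ t₀ → j ≫ pullback.fst _ _ = 𝟙 X →
      j ≫ pullback.snd _ _ = (X ↘ Spec (CommRingCat.of k)) ≫ t →
      Nonempty ((Scheme.Modules.pullback j).obj E ≅ (Scheme.Modules.pullback j).obj E'))
    (j₀ : X ⟶ pullback (X ↘ Spec (CommRingCat.of k)) (T ↘ Spec (CommRingCat.of k)))
    (hj₀ : j₀ ≫ pullback.fst _ _ = 𝟙 X) (hj₀' : j₀ ≫ pullback.snd _ _ = (X ↘ Spec (CommRingCat.of k)) ≫ t₀)
    (hst : ModFun.IsSlopeStable k X ((Scheme.Modules.pullback j₀).obj E) r)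
    (hst' : ModFun.IsSlopeStable k X ((Scheme.Modules.pullback j₀).obj E') r) :
    Nonempty ((Scheme.Modules.pullback j₀).obj E ≅ (Scheme.Modules.pullback j₀).obj E') := by
  let p := X ↘ Spec (CommRingCat.of k)
  let q := T ↘ Spec (CommRingCat.of k)
  let P := pullback p q
  let f : P ⟶ T := pullback.snd p q
  haveI : LocallyOfFinitePresentation p := LocallyOfFinitePresentation.iff_locallyOfFiniteType.2 inferInstance
  haveI : Flat f := inferInstance
  haveI : LocallyOfFinitePresentation f := inferInstance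
  haveI : IsNoetherian X := CurvLib.isNoetherian k (X := X)
  let z : Spec (CommRingCat.of k) := IsLocalRing.closedPoint k
  have hEl := CurveVBLib.isFinLocFree_of_rank hE
  have hEl' := CurveVBLib.isFinLocFree_of_rank hE'
  let H := CohCmpLib.homMod E E'
  have hH : FlatMod.IsFinLocFree H := CohCmpLib.isFinLocFree_homMod hEl hEl'
  obtain ⟨hQ, hfp, hfl⟩ := CohCmpLib.locFree_hyps f hH
  haveI : Coh.IsQCoh H := hQ
  have hjump : ∀ (t : Spec (CommRingCat.of k) ⟶ T) (j : X ⟶ P), t ≫ q = 𝟙 _ → j ≫ pullback.fst p q = 𝟙 X →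
      j ≫ pullback.snd p q = p ≫ t →
      ((∃ φ : (Scheme.Modules.pullback j).obj E ⟶ (Scheme.Modules.pullback j).obj E', φ ≠ 0) ↔
        1 ≤ PerfAux.betti f H (t z) 0) := by
    intro t j ht h1 h2
    have hsq := isPullback_slice p q t ht j h1 h2
    obtain ⟨W, C, hW, hz⟩ := CohCmpLib.exists_chart_at (f := f) hfp hfl (t z)
    have hb := C.finrank_bc hW hsq (fun z' => by rwa [Subsingleton.elim (α := PrimeSpectrum k) z' z]) z 0
    haveI := CohCmpLib.isIso_homPull j (M := E) (P := E') hEl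
    have hc : Coh.IsCoh ((Scheme.Modules.pullback j).obj H) :=
      LocSuppLib.isCoh_of_isFinLocFree (CohCmpLib.isFinLocFree_pb j hH)
    haveI : Module.Finite k (Coh.HH X (KFlatLib.pb j (CohCmpLib.homMod E E')) 0) := CurvLib.finite_HH (k := k) hc 0
    rw [← nontrivial_h0_iff k, ← hb]
    refine (CurvLib.hIso (k := k) (asIso (CohCmpLib.homPull j E E')) 0).toEquiv.nontrivial_congr.symm.trans ?_
    refine ⟨fun hn => ?_, fun h => Module.nontrivial_of_finrank_pos (R := k) h⟩
    haveI : Nontrivial (Coh.HH X ((Scheme.Modules.pullback j).obj H) 0) := hn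
    exact @Module.finrank_pos k _ _ _ _ _ (CurvLib.finite_HH (k := k) hc 0) _ _ this
  -- degrees
  have hdeg : ∀ {M : P.Modules}, FlatMod.IsFinLocFree M → ∀ (t t' : Spec (CommRingCat.of k) ⟶ T) (j j' : X ⟶ P),
      t ≫ q = 𝟙 _ → t' ≫ q = 𝟙 _ → j ≫ pullback.fst p q = 𝟙 X → j ≫ pullback.snd p q = p ≫ t →
      j' ≫ pullback.fst p q = 𝟙 X → j' ≫ pullback.snd p q = p ≫ t' →
      Curv2.deg k X ((Scheme.Modules.pullback j).obj M) r = Curv2.deg k X ((Scheme.Modules.pullback j').obj M) r := by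
    intro M hM t t' j j' ht ht' a b a' b'
    obtain ⟨-, hfpM, hflM⟩ := CohCmpLib.locFree_hyps f hM
    have e1 := CohCmpLib.euler_bc hfpM hflM (isPullback_slice p q t ht j a b) z
    have e2 := CohCmpLib.euler_bc hfpM hflM (isPullback_slice p q t' ht' j' a' b') z
    have e3 := (CohCmpLib.isLocallyConstant_eulerChar hfpM hflM).apply_eq_of_preconnectedSpace (t z) (t' z)
    change Curv2.euler k X _ - _ = Curv2.euler k X _ - _
    rw [show Curv2.euler k X ((Scheme.Modules.pullback j).obj M) = _ from e1,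
      show Curv2.euler k X ((Scheme.Modules.pullback j').obj M) = _ from e2, e3]
  -- points other than `t₀`
  have hpt : ∀ O : Set T, IsOpen O → O.Nonempty →
      ∃ t : Spec (CommRingCat.of k) ⟶ T, t ≫ q = 𝟙 _ ∧ t ≠ t₀ ∧ t z ∈ O := by
    intro O hO hne
    let a := ((pointEquivClosedPoint q) ⟨t₀, ht₀⟩).1
    have ha : IsClosed ({a} : Set T) := ((pointEquivClosedPoint q) ⟨t₀, ht₀⟩).2
    have hne' : (O \ {a}).Nonempty := by
      by_contra hcon
      rw [Set.not_nonempty_iff_eq_empty, Set.sdiff_eq_empty] at hcon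
      have hO' : IsOpen ({a} : Set T) := by rwa [← hne.subset_singleton_iff.1 hcon]
      have hclopen : IsClopen ({a} : Set T) := ⟨ha, hO'⟩
      have huniv := isClopen_iff.1 hclopen
      simp at huniv
      haveI : Subsingleton T := by
        refine ⟨fun x y => ?_⟩
        have hx : x ∈ ({a} : Set T) := by rw [huniv]; trivial
        have hy : y ∈ ({a} : Set T) := by rw [huniv]; trivial
        exact hx.trans hy.symm
      have h0 : topologicalKrullDim T ≤ 0 := (topologicalKrullDim_zero_of_discreteTopology T)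
      rw [hT] at h0
      exact absurd h0 (by norm_num)
    haveI : JacobsonSpace T := LocallyOfFiniteType.jacobsonSpace q
    obtain ⟨x, hx, hxc⟩ := nonempty_inter_closedPoints hne' (hO.sdiff ha).isLocallyClosed
    refine ⟨pointOfClosedPoint q x hxc, pointOfClosedPoint_comp q x hxc, fun h => hx.2 ?_, ?_⟩
    · rw [← pointOfClosedPoint_apply q x hxc z, h]
      rfl
    · rw [pointOfClosedPoint_apply q x hxc z]; exact hx.1
  have hE₀ := SeesawLib.isFinLocFreeOfRank_pullback j₀ hE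
  have hE₀' := SeesawLib.isFinLocFreeOfRank_pullback j₀ hE'
  obtain ⟨φ, hφ⟩ : ∃ φ : (Scheme.Modules.pullback j₀).obj E ⟶ (Scheme.Modules.pullback j₀).obj E', φ ≠ 0 := by
    rw [hjump t₀ j₀ ht₀ hj₀ hj₀']
    by_contra hcon
    obtain ⟨t, ht, hne, hlt⟩ := hpt _ (CohCmpLib.isOpen_betti_lt (f := f) hfp hfl 0 1) ⟨t₀ z, by simpa using hcon⟩
    obtain ⟨e⟩ := hiso t (slice t ht) ht hne (slice_fst t ht) (slice_snd t ht)
    have hnz : e.hom ≠ 0 := fun h0 => by
      have hz : IsZero ((Scheme.Modules.pullback (slice (X := X) t ht)).obj E) :=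
        (IsZero.iff_id_eq_zero _).mpr (by rw [← e.hom_inv_id, h0, zero_comp])
      have := genRank_of_isZero hz
      rw [genRank_eq (SeesawLib.isFinLocFreeOfRank_pullback (slice (X := X) t ht) hE)] at this
      omega
    have := (hjump t (slice t ht) ht (slice_fst t ht) (slice_snd t ht)).1 ⟨e.hom, hnz⟩
    exact Nat.not_lt.2 this hlt
  obtain ⟨t, ht, hne, -⟩ := hpt Set.univ isOpen_univ ⟨t₀ z, trivial⟩
  obtain ⟨e⟩ := hiso t (slice t ht) ht hne (slice_fst t ht) (slice_snd t ht)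
  have hμ : Curv2.deg k X ((Scheme.Modules.pullback j₀).obj E) r =
      Curv2.deg k X ((Scheme.Modules.pullback j₀).obj E') r :=
    (hdeg hEl t₀ t j₀ _ ht₀ ht hj₀ hj₀' (slice_fst t ht) (slice_snd t ht)).trans
      ((CurvLib.deg_congr (k := k) e r).trans
        (hdeg hEl' t t₀ _ j₀ ht ht₀ (slice_fst t ht) (slice_snd t ht) hj₀ hj₀'))
  have hss : ∀ {M : X.Modules}, FlatMod.IsFinLocFreeOfRank r M → ModFun.IsSlopeStable k X M r →
      ModFun.IsSlopeSemistable k X M r := fun {M} hM h F r' i hi hr' hF => by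
    haveI := hi
    rcases lt_or_ge r' r with hlt | hge
    · exact (h F r' i hi hr' hlt hF).le
    · have hle := genRank_mono i (CurvLib.isCoh_of_locFree hF) (CurvLib.isCoh_of_locFree hM)
      rw [genRank_eq hF, genRank_eq hM] at hle
      obtain rfl : r' = r := by omega
      rw [deg_eq_dg hF, deg_eq_dg hM]
      exact mul_le_mul_of_nonneg_right (dg_le_of_mono (k := k) hX (CurvLib.isCoh_of_locFree hF)
        (genRank_eq hF) hM i).1 (Int.natCast_nonneg _)
  haveI := Groth.Agent.S15333.result k X hX r r hr hr _ _ hE₀ hE₀' (hss hE₀ hst) hst (hss hE₀' hst') hst'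
    (by rw [hμ]) φ hφ
  exact ⟨asIso φ⟩

end Family

end StableSepLib

end
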